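import Groth.Agent.H18.TensorGen
import Groth.Agent.H22.GenSection
import Groth.Agent.H8.QCohQcqs

/-!
# Free generation of a module by a section is local; Hartogs-type extension of free generation
(helper17)

* `isGen_of_locally` : a section which freely generates `M` near every point of `V` freely
  generates `M` over `V`.
* `isGen_of_inf` : if restriction `W' ⊓ V → W'` is bijective on sections of `O_X` and of `M` for all
  opens `W'`, a section over `W` which freely generates over `W ⊓ V` freely generates over `W`.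
-/

set_option autoImplicit false
set_option linter.style.haveILetI false
universe u
open CategoryTheory CategoryTheory.Limits AlgebraicGeometry TopologicalSpace Opposite

namespace Groth.Agent.H17.ExtFlat

open Groth.Agent.H8 (res_res res_smul ringRes_res section_eq_of_cover)
open Groth.Agent.H18.TensorGen (IsGen)

variable {X : Scheme.{u}}

/-- sections of the structure sheaf agreeing locally are equal -/
lemma ring_section_eq_of_cover {W : X.Opens} (a b : Γ(X, W))
    (h : ∀ x ∈ W, ∃ (V : X.Opens) (hVW : V ≤ W), x ∈ V ∧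
      X.presheaf.map (homOfLE hVW).op a = X.presheaf.map (homOfLE hVW).op b) : a = b := by
  refine TopCat.Presheaf.section_ext X.sheaf W a b (fun x hxW => ?_)
  obtain ⟨V, hVW, hxV, hV⟩ := h x hxW
  have h1 := TopCat.Presheaf.germ_res_apply X.presheaf (homOfLE hVW) x hxV a
  have h2 := TopCat.Presheaf.germ_res_apply X.presheaf (homOfLE hVW) x hxV b
  exact h1.symm.trans ((congrArg _ hV).trans h2)

/-- Free generation by a section is a local property. -/
theorem isGen_of_locally (M : X.Modules) (V : X.Opens) (μ : Γ(M, V))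
    (h : ∀ y ∈ V, ∃ (D : X.Opens) (hD : D ≤ V), y ∈ D ∧
      IsGen M D (M.presheaf.map (homOfLE hD).op μ)) :
    IsGen M V μ := by
  choose D hD hyD hgen using h
  intro V' hV'
  constructor
  · intro r₁ r₂ h12
    refine ring_section_eq_of_cover r₁ r₂ (fun y hy => ?_)
    have hyV : y ∈ V := hV' hy
    refine ⟨D y hyV ⊓ V', inf_le_right, ⟨hyD y hyV, hy⟩, ?_⟩
    have hb := hgen y hyV (D y hyV ⊓ V') inf_le_left
    apply hb.1
    have h3 := congrArg (M.presheaf.map (homOfLE (inf_le_right : D y hyV ⊓ V' ≤ V')).op) h12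
    simp only at h3
    rw [res_smul, res_smul, res_res] at h3
    simp only
    rw [res_res]
    exact h3
  · intro n
    have hloc : ∀ y : V', ∃ r : Γ(X, D y.1 (hV' y.2) ⊓ V'),
        r • M.presheaf.map (homOfLE ((inf_le_right : D y.1 (hV' y.2) ⊓ V' ≤ V').trans hV')).op μ =
          M.presheaf.map (homOfLE (inf_le_right : D y.1 (hV' y.2) ⊓ V' ≤ V')).op n := by
      intro y
      have hb := hgen y.1 (hV' y.2) (D y.1 (hV' y.2) ⊓ V') inf_le_left
      obtain ⟨r, hr⟩ := hb.2 (M.presheaf.map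
        (homOfLE (inf_le_right : D y.1 (hV' y.2) ⊓ V' ≤ V')).op n)
      simp only at hr
      rw [res_res] at hr
      exact ⟨r, hr⟩
    choose rf hrf using hloc
    have hcompat : TopCat.Presheaf.IsCompatible X.sheaf.1
        (fun y : V' => D y.1 (hV' y.2) ⊓ V') rf := by
      intro y z
      have hb := hgen y.1 (hV' y.2)
        ((D y.1 (hV' y.2) ⊓ V') ⊓ (D z.1 (hV' z.2) ⊓ V')) (inf_le_left.trans inf_le_left)
      apply hb.1
      simp only
      have e1 := congrArg (M.presheaf.map (homOfLE (inf_le_left :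
        (D y.1 (hV' y.2) ⊓ V') ⊓ (D z.1 (hV' z.2) ⊓ V') ≤ D y.1 (hV' y.2) ⊓ V')).op) (hrf y)
      have e2 := congrArg (M.presheaf.map (homOfLE (inf_le_right :
        (D y.1 (hV' y.2) ⊓ V') ⊓ (D z.1 (hV' z.2) ⊓ V') ≤ D z.1 (hV' z.2) ⊓ V')).op) (hrf z)
      rw [res_smul, res_res, res_res] at e1 e2
      rw [res_res]
      exact e1.trans e2.symm
    obtain ⟨r₀, hr₀, -⟩ := TopCat.Sheaf.existsUnique_gluing' X.sheaf
      (fun y : V' => D y.1 (hV' y.2) ⊓ V') V' (fun y => homOfLE inf_le_right)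
      (fun y hy => Opens.mem_iSup.mpr ⟨⟨y, hy⟩, ⟨hyD y (hV' hy), hy⟩⟩) rf hcompat
    obtain ⟨r, hr⟩ : ∃ r : Γ(X, V'), ∀ y : V', X.presheaf.map
        (homOfLE (inf_le_right : D y.1 (hV' y.2) ⊓ V' ≤ V')).op r = rf y := ⟨r₀, hr₀⟩
    refine ⟨r, ?_⟩
    simp only
    refine section_eq_of_cover M _ _ (fun y hy => ?_)
    refine ⟨D y (hV' hy) ⊓ V', inf_le_right, ⟨hyD y (hV' hy), hy⟩, ?_⟩
    rw [res_smul, res_res]
    have h5 := hr ⟨y, hy⟩
    have h6 := hrf ⟨y, hy⟩
    refine Eq.trans ?_ h6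
    exact congrArg (fun q => q • M.presheaf.map (homOfLE ((inf_le_right :
      D y (hV' hy) ⊓ V' ≤ V').trans hV')).op μ) h5

/-- Hartogs-type extension of free generation. -/
theorem isGen_of_inf (M : X.Modules) (V W : X.Opens) (μ : Γ(M, W))
    (h1 : ∀ W' : X.Opens, Function.Bijective (fun r : Γ(X, W') =>
      X.presheaf.map (homOfLE (inf_le_left : W' ⊓ V ≤ W')).op r))
    (h2 : ∀ W' : X.Opens, Function.Bijective (fun n : Γ(M, W') =>
      M.presheaf.map (homOfLE (inf_le_left : W' ⊓ V ≤ W')).op n))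
    (hμ : IsGen M (W ⊓ V) (M.presheaf.map (homOfLE (inf_le_left : W ⊓ V ≤ W)).op μ)) :
    IsGen M W μ := by
  intro W' hW'
  have hle : W' ⊓ V ≤ W ⊓ V := inf_le_inf_right V hW'
  have hb := hμ (W' ⊓ V) hle
  have hcomm : ∀ r : Γ(X, W'),
      M.presheaf.map (homOfLE (inf_le_left : W' ⊓ V ≤ W')).op
        (r • M.presheaf.map (homOfLE hW').op μ) =
      (X.presheaf.map (homOfLE (inf_le_left : W' ⊓ V ≤ W')).op r) •
        M.presheaf.map (homOfLE hle).op
          (M.presheaf.map (homOfLE (inf_le_left : W ⊓ V ≤ W)).op μ) := by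
    intro r
    rw [res_smul, res_res, res_res]
  constructor
  · intro r₁ r₂ h12
    apply (h1 W').1
    apply hb.1
    simp only at h12 ⊢
    rw [← hcomm, ← hcomm, h12]
  · intro n
    obtain ⟨r', hr'⟩ := hb.2 (M.presheaf.map (homOfLE (inf_le_left : W' ⊓ V ≤ W')).op n)
    obtain ⟨r, rfl⟩ := (h1 W').2 r'
    refine ⟨r, ?_⟩
    apply (h2 W').1
    simp only at hr' ⊢
    rw [hcomm]
    exact hr'

end Groth.Agent.H17.ExtFlat
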