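import Groth.Agent.H17.ExtFlat.Spread
import Groth.Agent.H8.FlatBCStruct
import Groth.Agent.H8.FpqcLocFree
import Groth.Agent.H8.InvLocal
import Groth.Agent.H22.PullGen
import Groth.Agent.S6039
import Groth.Agent.H2.ConnComp

/-!
# Flat descent of extendability of invertible modules across a closed subset of depth `≥ 2`
(helper17)

`isInvertible_pushforward_of_flat` : `φ : X' ⟶ X` flat surjective (not necessarily quasi-compact),
`X` locally Noetherian, `V ⊆ X` open with `depth O_{X,x} ≥ 2` for `x ∉ V`, `L` invertible on `V`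
whose pullback to `φ⁻¹ V` extends to an invertible module on `X'`. Then `j_* L` is invertible.
-/

set_option autoImplicit false
set_option linter.style.haveILetI false
universe u
open CategoryTheory CategoryTheory.Limits AlgebraicGeometry TopologicalSpace Opposite TensorProduct
open AlgebraicGeometry.Scheme.Modules

namespace Groth.Agent.H17.ExtFlat

open Groth.Agent.H18.TensorGen (IsGen)

/-- the stalk of a quasi-coherent module whose pullback along a flat morphism is invertible is
free of rank one at the points of the image. -/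
theorem exists_stalk_generator {X X' : Scheme.{u}} [IsLocallyNoetherian X] (φ : X' ⟶ X) [Flat φ]
    (N : X.Modules) [N.IsQuasicoherent]
    (hP : PicF.IsInvertible ((Scheme.Modules.pullback φ).obj N)) (x' : X') :
    ∃ t : N.presheaf.stalk (φ x'),
      Function.Bijective (fun r : X.presheaf.stalk (φ x') => r • t) := by
  haveI := Groth.Agent.H8.isQuasicoherent_pullback φ N
  have h := Groth.Agent.H8.isFinLocFreeOfRank_one_of_isInvertible hP
  obtain ⟨U, hxU, ⟨eU⟩⟩ := h x'
  obtain ⟨b⟩ := Groth.Agent.H8.exists_basis_stalk_of_restrict_iso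
    ((Scheme.Modules.pullback φ).obj N) eU x' hxU
  letI := (φ.stalkMap x').hom.toAlgebra
  obtain ⟨E⟩ := Groth.Agent.H8.nonempty_stalk_pullback_equiv φ N x'
  haveI : IsLocalHom (algebraMap (X.presheaf.stalk (φ x')) (X'.presheaf.stalk x')) :=
    (inferInstance : IsLocalHom (φ.stalkMap x').hom)
  haveI : Module.Flat (X.presheaf.stalk (φ x')) (X'.presheaf.stalk x') := Flat.stalkMap φ x'
  haveI : Module.FaithfullyFlat (X.presheaf.stalk (φ x')) (X'.presheaf.stalk x') :=
    Module.FaithfullyFlat.of_flat_of_isLocalHom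
  obtain ⟨eT, -⟩ : ∃ eT : ((X'.presheaf.stalk x') ⊗[X.presheaf.stalk (φ x')]
      (N.presheaf.stalk (φ x'))) ≃ₗ[X'.presheaf.stalk x'] (Fin 1 → X'.presheaf.stalk x'),
      True := ⟨E.symm.trans b.equivFun, trivial⟩
  haveI : Module.Finite (X'.presheaf.stalk x') ((X'.presheaf.stalk x') ⊗[X.presheaf.stalk (φ x')]
      (N.presheaf.stalk (φ x'))) := Module.Finite.equiv eT.symm
  haveI : Module.Finite (X.presheaf.stalk (φ x')) (N.presheaf.stalk (φ x')) :=
    Module.Finite.of_finite_tensorProduct_of_faithfullyFlat (X'.presheaf.stalk x')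
  obtain ⟨ε⟩ := Groth.Agent.H8.free_of_tensor_free 1 eT
  refine ⟨ε.symm (fun _ => 1), ?_⟩
  have he : (fun r : X.presheaf.stalk (φ x') => r • ε.symm (fun _ => (1 : X.presheaf.stalk (φ x')))) =
      ε.symm ∘ (fun r : X.presheaf.stalk (φ x') => (fun _ : Fin 1 => r)) := by
    funext r
    simp only [Function.comp_apply]
    rw [← LinearEquiv.map_smul]
    congr 1
    funext i
    simp
  rw [he]
  refine ε.symm.bijective.comp ⟨fun r₁ r₂ h => congrFun h 0, fun g => ⟨g 0, ?_⟩⟩
  funext i
  rw [Subsingleton.elim i 0]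

set_option maxHeartbeats 800000 in
theorem isInvertible_pushforward_of_flat {X X' : Scheme.{u}} [IsLocallyNoetherian X]
    (φ : X' ⟶ X) [Flat φ] [Surjective φ] (V : X.Opens)
    (hV : ∀ x : X, x ∉ V →
      2 ≤ LocCoh.depth (X.presheaf.stalk x) (X.presheaf.stalk x))
    (L : (V : Scheme.{u}).Modules) (hL : PicF.IsInvertible L)
    (M' : X'.Modules) (hM' : PicF.IsInvertible M')
    (e0 : (Scheme.Modules.pullback (φ ⁻¹ᵁ V).ι).obj M' ≅
      (Scheme.Modules.pullback (φ ∣_ V)).obj L) :
    PicF.IsInvertible ((Scheme.Modules.pushforward V.ι).obj L) := by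
  -- Hartogs
  have key := (Groth.Agent.S6039.result X V (Coh.structureModule X)
    (Groth.Agent.H8.isCoh_structureModule X)).1 (fun x hx => by
      rw [Groth.Agent.H2.ConnComp.depth_structureModule_stalk]
      exact hV x hx)
  have H : ∀ W : X.Opens, Function.Bijective
      (X.presheaf.map (homOfLE (inf_le_left : W ⊓ V ≤ W)).op).hom := fun W => key W
  have h1 : ∀ W' : X.Opens, Function.Bijective (fun r : Γ(X, W') =>
      X.presheaf.map (homOfLE (inf_le_left : W' ⊓ V ≤ W')).op r) := fun W' => H W'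
  have hf : ∀ W : X.Opens, Function.Bijective (V.ι.app W) := by
    intro W
    rw [Scheme.Opens.ι_app]
    have e : V.ι ''ᵁ V.ι ⁻¹ᵁ W = W ⊓ V := by
      rw [Scheme.Hom.image_preimage_eq_opensRange_inf, Scheme.Opens.opensRange_ι, inf_comm]
    exact (Groth.Agent.H8.bijective_presheaf_map_congr rfl e inf_le_left _).mp (H W)
  -- the module `N = j_* L`
  haveI : L.IsQuasicoherent := Groth.Agent.H8.isQuasicoherent_of_isFinLocFree L
    (Groth.Agent.H8.isFinLocFree_of_isInvertible hL)
  haveI : ((Scheme.Modules.pushforward V.ι).obj L).IsQuasicoherent :=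
    Groth.Agent.H8.isQuasicoherent_pushforward _ L
  obtain ⟨N, hN⟩ : ∃ N : X.Modules, N = (Scheme.Modules.pushforward V.ι).obj L := ⟨_, rfl⟩
  -- flat base change
  have hsq : IsPullback (φ ∣_ V) (φ ⁻¹ᵁ V).ι V.ι φ := isPullback_morphismRestrict φ V
  haveI := Groth.Agent.H8.FlatBC.isIso_uMap_of_flat hsq L
  have hf' := Groth.Agent.H8.app_bijective_of_flat_baseChange hsq hf
  haveI := Groth.Agent.H8.UnitFLF.isIso_unit_of_isFinLocFree (φ ⁻¹ᵁ V).ι hf' M'
    (Groth.Agent.H8.isFinLocFree_of_isInvertible hM')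
  have e : (Scheme.Modules.pullback φ).obj ((Scheme.Modules.pushforward V.ι).obj L) ≅ M' :=
    asIso (Groth.Agent.H8.AffBC.uMap _ _ _ _ hsq.w L) ≪≫
      (Scheme.Modules.pushforward (φ ⁻¹ᵁ V).ι).mapIso e0.symm ≪≫
      (asIso ((pullbackPushforwardAdjunction (φ ⁻¹ᵁ V).ι).unit.app M')).symm
  have hP : PicF.IsInvertible
      ((Scheme.Modules.pullback φ).obj ((Scheme.Modules.pushforward V.ι).obj L)) :=
    Groth.Agent.H8.isInvertible_of_iso e.symm hM'
  -- Hartogs for `N`
  have h2 : ∀ W' : X.Opens, Function.Bijective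
      (fun n : Γ((Scheme.Modules.pushforward V.ι).obj L, W') =>
        ((Scheme.Modules.pushforward V.ι).obj L).presheaf.map
          (homOfLE (inf_le_left : W' ⊓ V ≤ W')).op n) := by
    intro W'
    have hle : V.ι ⁻¹ᵁ (W' ⊓ V) ≤ V.ι ⁻¹ᵁ W' := fun z hz => hz.1
    have hge : V.ι ⁻¹ᵁ W' ≤ V.ι ⁻¹ᵁ (W' ⊓ V) := fun z hz => ⟨hz, z.2⟩
    haveI := Groth.Agent.H8.UnitFLF.isIso_map_of_le_of_le L hle hge
    exact ConcreteCategory.bijective_of_isIso (L.presheaf.map (homOfLE hle).op)
  -- local generators on `V`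
  have h3 : ∀ y ∈ V, ∃ (D : X.Opens) (μ : Γ((Scheme.Modules.pushforward V.ι).obj L, D)),
      y ∈ D ∧ IsGen ((Scheme.Modules.pushforward V.ι).obj L) D μ := by
    intro y hy
    have hinv : PicF.IsInvertible (((Scheme.Modules.pushforward V.ι).obj L).restrict V.ι) :=
      Groth.Agent.H8.isInvertible_of_iso ((restrictFunctorAdjCounitIso V.ι).app L).symm hL
    obtain ⟨T', hyT', ⟨eT'⟩⟩ :=
      Groth.Agent.H8.exists_restrict_iso_of_isInvertible_restrict V.ι _ hinv ⟨y, hy⟩
    obtain ⟨σ, hσ⟩ := Groth.Agent.H22.GenLocus.exists_generator _ T' eT'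
    exact ⟨T', σ, hyT', hσ⟩
  apply Groth.Agent.H18.TensorGen.isInvertible_of_isGen
  intro x
  obtain ⟨x', rfl⟩ := φ.surjective x
  obtain ⟨t, ht⟩ := exists_stalk_generator φ ((Scheme.Modules.pushforward V.ι).obj L) hP x'
  obtain ⟨W, σ, hxW, hσ⟩ := exists_isGen_nhd ((Scheme.Modules.pushforward V.ι).obj L) V h1 h2 h3
    (φ x') t ht
  exact ⟨W, σ, hxW, hσ⟩

end Groth.Agent.H17.ExtFlat
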