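import Groth.Agent.H17.ExtFlat.Main

/-!
# Variant of `isInvertible_pushforward_of_flat` where `φ` is only assumed to hit the points
outside `V` (helper17)
-/

set_option autoImplicit false
set_option linter.style.haveILetI false
universe u
open CategoryTheory CategoryTheory.Limits AlgebraicGeometry TopologicalSpace Opposite TensorProduct
open AlgebraicGeometry.Scheme.Modules

namespace Groth.Agent.H17.ExtFlat

open Groth.Agent.H18.TensorGen (IsGen)

set_option maxHeartbeats 800000 in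
theorem isInvertible_pushforward_of_flat' {X X' : Scheme.{u}} [IsLocallyNoetherian X]
    (φ : X' ⟶ X) [Flat φ] (V : X.Opens)
    (hsurj : ∀ x : X, x ∉ V → ∃ x' : X', φ x' = x)
    (hV : ∀ x : X, x ∉ V →
      2 ≤ LocCoh.depth (X.presheaf.stalk x) (X.presheaf.stalk x))
    (L : (V : Scheme.{u}).Modules) (hL : PicF.IsInvertible L)
    (M' : X'.Modules) (hM' : PicF.IsInvertible M')
    (e0 : (Scheme.Modules.pullback (φ ⁻¹ᵁ V).ι).obj M' ≅
      (Scheme.Modules.pullback (φ ∣_ V)).obj L) :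
    PicF.IsInvertible ((Scheme.Modules.pushforward V.ι).obj L) := by
  -- Hartogs
  have key := (Groth.Agent.S6039.result X V (Coh.structureModule X)
    (Groth.Agent.H8.isCoh_structureModule X)).1 (fun x hx => by
      rw [Groth.Agent.H2.ConnComp.depth_structureModule_stalk]
      exact hV x hx)
  have H : ∀ W : X.Opens, Function.Bijective
      (X.presheaf.map (homOfLE (inf_le_left : W ⊓ V ≤ W)).op).hom := fun W => key W
  have h1 : ∀ W' : X.Opens, Function.Bijective (fun r : Γ(X, W') =>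
      X.presheaf.map (homOfLE (inf_le_left : W' ⊓ V ≤ W')).op r) := fun W' => H W'
  have hf : ∀ W : X.Opens, Function.Bijective (V.ι.app W) := by
    intro W
    rw [Scheme.Opens.ι_app]
    have e : V.ι ''ᵁ V.ι ⁻¹ᵁ W = W ⊓ V := by
      rw [Scheme.Hom.image_preimage_eq_opensRange_inf, Scheme.Opens.opensRange_ι, inf_comm]
    exact (Groth.Agent.H8.bijective_presheaf_map_congr rfl e inf_le_left _).mp (H W)
  -- the module `N = j_* L`
  haveI : L.IsQuasicoherent := Groth.Agent.H8.isQuasicoherent_of_isFinLocFree L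
    (Groth.Agent.H8.isFinLocFree_of_isInvertible hL)
  haveI : ((Scheme.Modules.pushforward V.ι).obj L).IsQuasicoherent :=
    Groth.Agent.H8.isQuasicoherent_pushforward _ L
  obtain ⟨N, hN⟩ : ∃ N : X.Modules, N = (Scheme.Modules.pushforward V.ι).obj L := ⟨_, rfl⟩
  -- flat base change
  have hsq : IsPullback (φ ∣_ V) (φ ⁻¹ᵁ V).ι V.ι φ := isPullback_morphismRestrict φ V
  haveI := Groth.Agent.H8.FlatBC.isIso_uMap_of_flat hsq L
  have hf' := Groth.Agent.H8.app_bijective_of_flat_baseChange hsq hf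
  haveI := Groth.Agent.H8.UnitFLF.isIso_unit_of_isFinLocFree (φ ⁻¹ᵁ V).ι hf' M'
    (Groth.Agent.H8.isFinLocFree_of_isInvertible hM')
  have e : (Scheme.Modules.pullback φ).obj ((Scheme.Modules.pushforward V.ι).obj L) ≅ M' :=
    asIso (Groth.Agent.H8.AffBC.uMap _ _ _ _ hsq.w L) ≪≫
      (Scheme.Modules.pushforward (φ ⁻¹ᵁ V).ι).mapIso e0.symm ≪≫
      (asIso ((pullbackPushforwardAdjunction (φ ⁻¹ᵁ V).ι).unit.app M')).symm
  have hP : PicF.IsInvertible
      ((Scheme.Modules.pullback φ).obj ((Scheme.Modules.pushforward V.ι).obj L)) :=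
    Groth.Agent.H8.isInvertible_of_iso e.symm hM'
  -- Hartogs for `N`
  have h2 : ∀ W' : X.Opens, Function.Bijective
      (fun n : Γ((Scheme.Modules.pushforward V.ι).obj L, W') =>
        ((Scheme.Modules.pushforward V.ι).obj L).presheaf.map
          (homOfLE (inf_le_left : W' ⊓ V ≤ W')).op n) := by
    intro W'
    have hle : V.ι ⁻¹ᵁ (W' ⊓ V) ≤ V.ι ⁻¹ᵁ W' := fun z hz => hz.1
    have hge : V.ι ⁻¹ᵁ W' ≤ V.ι ⁻¹ᵁ (W' ⊓ V) := fun z hz => ⟨hz, z.2⟩
    haveI := Groth.Agent.H8.UnitFLF.isIso_map_of_le_of_le L hle hge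
    exact ConcreteCategory.bijective_of_isIso (L.presheaf.map (homOfLE hle).op)
  -- local generators on `V`
  have h3 : ∀ y ∈ V, ∃ (D : X.Opens) (μ : Γ((Scheme.Modules.pushforward V.ι).obj L, D)),
      y ∈ D ∧ IsGen ((Scheme.Modules.pushforward V.ι).obj L) D μ := by
    intro y hy
    have hinv : PicF.IsInvertible (((Scheme.Modules.pushforward V.ι).obj L).restrict V.ι) :=
      Groth.Agent.H8.isInvertible_of_iso ((restrictFunctorAdjCounitIso V.ι).app L).symm hL
    obtain ⟨T', hyT', ⟨eT'⟩⟩ :=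
      Groth.Agent.H8.exists_restrict_iso_of_isInvertible_restrict V.ι _ hinv ⟨y, hy⟩
    obtain ⟨σ, hσ⟩ := Groth.Agent.H22.GenLocus.exists_generator _ T' eT'
    exact ⟨T', σ, hyT', hσ⟩
  apply Groth.Agent.H18.TensorGen.isInvertible_of_isGen
  intro x
  by_cases hx : x ∈ V
  · exact h3 x hx
  obtain ⟨x', rfl⟩ := hsurj x hx
  obtain ⟨t, ht⟩ := exists_stalk_generator φ ((Scheme.Modules.pushforward V.ι).obj L) hP x'
  obtain ⟨W, σ, hxW, hσ⟩ := exists_isGen_nhd ((Scheme.Modules.pushforward V.ι).obj L) V h1 h2 h3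
    (φ x') t ht
  exact ⟨W, σ, hxW, hσ⟩

end Groth.Agent.H17.ExtFlat
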