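import Groth.Agent.H17.ExtFlat.LocGen
import Groth.Agent.H8.QCohStalk
import Groth.Agent.H22.GenLocus

/-!
# Spreading out a free generator of the stalk of a quasi-coherent module of the form `j_* L`
(helper17)

`exists_isGen_nhd` : `X` locally Noetherian, `N` quasi-coherent, `V` open such that restriction
`W ⊓ V → W` is bijective on sections of `O_X` and of `N` for every open `W`, `N` locally freely
generated on `V`; if the stalk `N_x` is freely generated by one element, then `N` is freely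
generated by a section on a neighbourhood of `x`.
-/

set_option autoImplicit false
set_option linter.style.haveILetI false
universe u
open CategoryTheory CategoryTheory.Limits AlgebraicGeometry TopologicalSpace Opposite

namespace Groth.Agent.H17.ExtFlat

open Groth.Agent.H8 (res_res res_smul ringRes_res section_eq_of_cover)
open Groth.Agent.H18.TensorGen (IsGen)
open Groth.Agent.H22.GenSection (IsGenOn)

variable {X : Scheme.{u}} [IsLocallyNoetherian X] (N : X.Modules) [N.IsQuasicoherent] (V : X.Opens)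

set_option maxHeartbeats 800000 in
theorem exists_isGen_nhd
    (h1 : ∀ W' : X.Opens, Function.Bijective (fun r : Γ(X, W') =>
      X.presheaf.map (homOfLE (inf_le_left : W' ⊓ V ≤ W')).op r))
    (h2 : ∀ W' : X.Opens, Function.Bijective (fun n : Γ(N, W') =>
      N.presheaf.map (homOfLE (inf_le_left : W' ⊓ V ≤ W')).op n))
    (h3 : ∀ y ∈ V, ∃ (D : X.Opens) (μ : Γ(N, D)), y ∈ D ∧ IsGen N D μ)
    (x : X) (t : N.presheaf.stalk x)
    (h4 : Function.Bijective (fun r : X.presheaf.stalk x => r • t)) :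
    ∃ (W : X.Opens) (σ : Γ(N, W)), x ∈ W ∧ IsGen N W σ := by
  obtain ⟨W₀, hW₀, hxW₀, -⟩ := exists_isAffineOpen_mem_and_subset (x := x)
    (U := (⊤ : X.Opens)) trivial
  obtain ⟨a, hxa, s, hs⟩ := Groth.Agent.H8.exists_germ_smul_eq_germ N hW₀ x hxW₀ t
  have hua : IsUnit (X.presheaf.germ W₀ x hxW₀ a) := (Scheme.mem_basicOpen _ _ _ hxW₀).mp hxa
  have h4' : Function.Bijective
      (fun r : X.presheaf.stalk x => r • N.presheaf.germ W₀ x hxW₀ s) := by
    rw [← hs]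
    obtain ⟨w, hw⟩ := hua
    have he : (fun r : X.presheaf.stalk x => r • (X.presheaf.germ W₀ x hxW₀ a • t)) =
        (fun r : X.presheaf.stalk x => r • t) ∘
          (fun r : X.presheaf.stalk x => r * (w : X.presheaf.stalk x)) := by
      funext r
      simp only [Function.comp_apply]
      rw [← hw, mul_smul]
    rw [he]
    exact h4.comp (Units.mulRight_bijective w)
  have key : ∀ y : X, y ∈ W₀ → y ∈ V → ∃ f u : Γ(X, W₀), y ∈ X.basicOpen f ∧
      x ∈ X.basicOpen u ∧ IsGen N (X.basicOpen f ⊓ X.basicOpen u)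
        (N.presheaf.map (homOfLE ((inf_le_left : X.basicOpen f ⊓ X.basicOpen u ≤
          X.basicOpen f).trans (X.basicOpen_le f))).op s) := by
    intro y hyW₀ hyV
    obtain ⟨D, μ, hyD, hμ⟩ := h3 y hyV
    obtain ⟨f, hfD, hyf⟩ := hW₀.exists_basicOpen_le ⟨y, hyD⟩ hyW₀
    have hτgen0 : IsGen N (X.basicOpen f) (N.presheaf.map (homOfLE hfD).op μ) := hμ.res hfD
    obtain ⟨τ, hτdef⟩ : ∃ τ : Γ(N, X.basicOpen f), τ = N.presheaf.map (homOfLE hfD).op μ :=
      ⟨_, rfl⟩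
    have hτgen : IsGen N (X.basicOpen f) τ := hτdef ▸ hτgen0
    obtain ⟨n, c, hc⟩ := Groth.Agent.H8.exists_smul_eq_res hW₀ N f τ
    obtain ⟨ρ, hρ⟩ := h4'.2 (N.presheaf.germ W₀ x hxW₀ c)
    simp only at hρ
    letI := X.presheaf.algebra_section_stalk ⟨x, hxW₀⟩
    haveI := hW₀.isLocalization_stalk ⟨x, hxW₀⟩
    obtain ⟨⟨b, u⟩, hbu⟩ :=
      IsLocalization.surj (hW₀.primeIdealOf ⟨x, hxW₀⟩).asIdeal.primeCompl ρ
    have hbu' : ρ * X.presheaf.germ W₀ x hxW₀ u.1 = X.presheaf.germ W₀ x hxW₀ b := hbu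
    have hxu : x ∈ X.basicOpen u.1 :=
      (Groth.Agent.H8.mem_basicOpen_iff_notMem_primeIdealOf hW₀ x hxW₀ _).mpr u.2
    have hgerm : N.presheaf.germ W₀ x hxW₀ (u.1 • c - b • s) = 0 := by
      rw [map_sub, Groth.Agent.H8.germ_smul, Groth.Agent.H8.germ_smul, ← hρ, ← mul_smul,
        mul_comm (X.presheaf.germ W₀ x hxW₀ u.1) ρ, hbu', sub_self]
    obtain ⟨w, hxw, hw⟩ :=
      Groth.Agent.H8.exists_smul_eq_zero_of_germ_eq_zero N hW₀ x hxW₀ _ hgerm
    have hw' : (w * u.1) • c = (w * b) • s := by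
      rw [smul_sub, sub_eq_zero, ← mul_smul, ← mul_smul] at hw
      exact hw
    obtain ⟨a₀, ha₀⟩ := hτgen.self.2 (N.presheaf.map (homOfLE (X.basicOpen_le f)).op s)
    simp only at ha₀
    have e1 := congrArg (N.presheaf.map (homOfLE (X.basicOpen_le f)).op) hw'
    rw [res_smul, res_smul, ← hc, ← ha₀, ← mul_smul, ← mul_smul] at e1
    have e2 := hτgen.self.1 e1
    obtain ⟨A, hA⟩ : ∃ A : Γ(X, X.basicOpen f),
        A = X.presheaf.map (homOfLE (X.basicOpen_le f)).op (w * u.1) := ⟨_, rfl⟩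
    obtain ⟨Fr, hFr⟩ : ∃ Fr : Γ(X, X.basicOpen f),
        Fr = X.presheaf.map (homOfLE (X.basicOpen_le f)).op f := ⟨_, rfl⟩
    obtain ⟨B', hB'⟩ : ∃ B' : Γ(X, X.basicOpen f),
        B' = X.presheaf.map (homOfLE (X.basicOpen_le f)).op (w * b) := ⟨_, rfl⟩
    have e2' : A * Fr ^ n = B' * a₀ := by
      rw [hA, hFr, hB']
      exact e2
    refine ⟨f, w * u.1, hyf, ?_, ?_⟩
    · rw [Scheme.basicOpen_mul]
      exact ⟨hxw, hxu⟩
    · obtain ⟨E, hE⟩ : ∃ E : X.Opens, E = X.basicOpen f ⊓ X.basicOpen (w * u.1) := ⟨_, rfl⟩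
      have hEf : E ≤ X.basicOpen f := hE ▸ inf_le_left
      have hEu : E ≤ X.basicOpen (w * u.1) := hE ▸ inf_le_right
      have hEW₀ : E ≤ W₀ := hEf.trans (X.basicOpen_le f)
      have e3 : X.presheaf.map (homOfLE hEW₀).op (w * u.1) *
          X.presheaf.map (homOfLE hEW₀).op f ^ n =
          X.presheaf.map (homOfLE hEW₀).op (w * b) * X.presheaf.map (homOfLE hEf).op a₀ := by
        have e3' := congrArg (X.presheaf.map (homOfLE hEf).op) e2'
        rw [map_mul, map_mul, map_pow, hA, hFr, hB', ringRes_res, ringRes_res,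
          ringRes_res] at e3'
        exact e3'
      have hu1 : IsUnit (X.presheaf.map (homOfLE hEW₀).op (w * u.1)) :=
        (Groth.Agent.H22.GenLocus.isUnit_res_iff hEW₀ _).mpr hEu
      have hu2 : IsUnit (X.presheaf.map (homOfLE hEW₀).op f) :=
        (Groth.Agent.H22.GenLocus.isUnit_res_iff hEW₀ f).mpr hEf
      have hu3 : IsUnit (X.presheaf.map (homOfLE hEW₀).op (w * b) *
          X.presheaf.map (homOfLE hEf).op a₀) := by
        rw [← e3]
        exact hu1.mul (hu2.pow n)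
      have hu4 : IsUnit (X.presheaf.map (homOfLE hEf).op a₀) := isUnit_of_mul_isUnit_right hu3
      have hgenE : IsGen N E (N.presheaf.map (homOfLE hEf).op τ) := hτgen.res hEf
      have hgenE' : IsGen N E (X.presheaf.map (homOfLE hEf).op a₀ •
          N.presheaf.map (homOfLE hEf).op τ) :=
        IsGenOn.unit_smul (show IsGenOn N E _ from hgenE) _ hu4
      have e4 : N.presheaf.map (homOfLE hEW₀).op s = X.presheaf.map (homOfLE hEf).op a₀ •
          N.presheaf.map (homOfLE hEf).op τ := by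
        rw [← res_smul, ha₀, res_res]
      subst hE
      rw [← e4] at hgenE'
      exact hgenE'
  choose f u hyf hxu hgen using key
  haveI : IsNoetherianRing Γ(X, W₀) := IsLocallyNoetherian.component_noetherian ⟨W₀, hW₀⟩
  have hNS : NoetherianSpace W₀ := noetherianSpace_of_isAffineOpen W₀ hW₀
  have hK : IsCompact ((W₀ ⊓ V : X.Opens) : Set X) :=
    (noetherianSpace_set_iff (W₀ : Set X)).mp hNS _ (fun y hy => hy.1)
  obtain ⟨T, hT⟩ := hK.elim_finite_subcover
    (fun i : {y : X // y ∈ W₀ ∧ y ∈ V} => (X.basicOpen (f i.1 i.2.1 i.2.2) : Set X))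
    (fun i => (X.basicOpen _).2)
    (fun y hy => Set.mem_iUnion.mpr ⟨⟨y, hy.1, hy.2⟩, hyf y hy.1 hy.2⟩)
  obtain ⟨g, hg⟩ : ∃ g : Γ(X, W₀), g = ∏ i ∈ T, u i.1 i.2.1 i.2.2 := ⟨_, rfl⟩
  have hxg : x ∈ X.basicOpen g := by
    rw [hg, Scheme.mem_basicOpen _ _ _ hxW₀, map_prod]
    exact IsUnit.prod_iff.mpr
      (fun i _ => (Scheme.mem_basicOpen _ _ _ hxW₀).mp (hxu i.1 i.2.1 i.2.2))
  have hgle : ∀ i ∈ T, X.basicOpen g ≤ X.basicOpen (u i.1 i.2.1 i.2.2) := by
    intro i hi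
    obtain ⟨c, hc⟩ := Finset.dvd_prod_of_mem
      (fun i : {y : X // y ∈ W₀ ∧ y ∈ V} => u i.1 i.2.1 i.2.2) hi
    rw [hg, hc, Scheme.basicOpen_mul]
    exact inf_le_left
  have hgW₀ : X.basicOpen g ≤ W₀ := X.basicOpen_le g
  refine ⟨X.basicOpen g, N.presheaf.map (homOfLE hgW₀).op s, hxg, ?_⟩
  apply isGen_of_inf N V (X.basicOpen g) _ h1 h2
  apply isGen_of_locally
  intro y hy
  have hyW₀ : y ∈ W₀ := hgW₀ hy.1
  have hyK : y ∈ ((W₀ ⊓ V : X.Opens) : Set X) := ⟨hyW₀, hy.2⟩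
  obtain ⟨i, hiT, hyi⟩ := Set.mem_iUnion₂.mp (hT hyK)
  refine ⟨(X.basicOpen (f i.1 i.2.1 i.2.2) ⊓ X.basicOpen (u i.1 i.2.1 i.2.2)) ⊓
    (X.basicOpen g ⊓ V), inf_le_right, ⟨⟨hyi, hgle i hiT hy.1⟩, hy⟩, ?_⟩
  have hG := (hgen i.1 i.2.1 i.2.2).res (inf_le_left :
    (X.basicOpen (f i.1 i.2.1 i.2.2) ⊓ X.basicOpen (u i.1 i.2.1 i.2.2)) ⊓
      (X.basicOpen g ⊓ V) ≤ _)
  rw [res_res] at hG
  rw [res_res, res_res]
  exact hG

end Groth.Agent.H17.ExtFlat
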